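import Groth.Agent.L03.GeomReduced
import Groth.Agent.L05.Henselization.StrictUniq
import Groth.Agent.L05.Henselization.Noeth
import Groth.Agent.L28.CdLower.Lift
import Mathlib.RingTheory.DiscreteValuationRing.TFAE
import Mathlib.RingTheory.Etale.Field
import Mathlib.RingTheory.KrullDimension.Basic
import Mathlib.RingTheory.Flat.FaithfullyFlat.Algebra
import Mathlib.RingTheory.TensorProduct.Quotient
import Mathlib.RingTheory.Smooth.Basic
import Mathlib.RingTheory.Artinian.Ring
import Mathlib.RingTheory.HopkinsLevitzki

/-!
# Formally smooth one-dimensional local algebras over a discrete valuation ring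
-/

set_option autoImplicit false
set_option linter.style.haveILetI false

universe u

open IsLocalRing TensorProduct

namespace Groth.L15.NeronExt

variable (R : Type u) [CommRing R] [IsDomain R] [IsDiscreteValuationRing R]
  (O : Type u) [CommRing O] [IsLocalRing O] [IsDomain O] [IsNoetherianRing O] [Algebra R O]
  [IsLocalHom (algebraMap R O)] [Module.Flat R O] [Algebra.FormallySmooth R O]

theorem algebraMap_injective :
    Function.Injective (algebraMap R O) := by
  haveI : Module.FaithfullyFlat R O := Module.FaithfullyFlat.of_flat_of_isLocalHom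
  exact FaithfulSMul.algebraMap_injective R O

theorem exists_one_tmul (z : ResidueField R ⊗[R] O) : ∃ o : O, (1 : ResidueField R) ⊗ₜ[R] o = z := by
  induction z using TensorProduct.induction_on with
  | zero => exact ⟨0, TensorProduct.tmul_zero _ _⟩
  | tmul a o =>
    obtain ⟨r, rfl⟩ := IsLocalRing.residue_surjective a
    refine ⟨r • o, ?_⟩
    rw [TensorProduct.tmul_smul, TensorProduct.smul_tmul']
    congr 1
    rw [Algebra.smul_def, mul_one]
    rfl
  | add x y hx hy =>
    obtain ⟨a, rfl⟩ := hx
    obtain ⟨b, rfl⟩ := hy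
    exact ⟨a + b, TensorProduct.tmul_add _ _ _⟩

theorem injective_of_local_flat (A B : Type u) [CommRing A] [IsLocalRing A] [CommRing B] [IsLocalRing B]
    [Algebra A B] [IsLocalHom (algebraMap A B)] [Module.Flat A B] :
    Function.Injective (algebraMap A B) := by
  haveI : Module.FaithfullyFlat A B := Module.FaithfullyFlat.of_flat_of_isLocalHom
  exact FaithfulSMul.algebraMap_injective A B

/-- The maximal ideal of such an algebra is generated by that of the base. -/
theorem map_maximalIdeal_eq (hdim : ringKrullDim O ≤ 1) :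
    (maximalIdeal R).map (algebraMap R O) = maximalIdeal O := by
  haveI : Ring.KrullDimLE 1 O := Ring.krullDimLE_iff.mpr hdim
  obtain ⟨π, hπ⟩ := IsDiscreteValuationRing.exists_irreducible R
  let k := ResidueField R
  let θ : O →ₐ[R] k ⊗[R] O := Algebra.TensorProduct.includeRight
  have hθ : Function.Surjective θ := exists_one_tmul R O
  have hθπ : θ (algebraMap R O π) = 0 := by
    rw [AlgHom.commutes, Algebra.TensorProduct.algebraMap_apply,
      show algebraMap R k π = 0 from (residue_eq_zero_iff π).mpr hπ.not_isUnit, TensorProduct.zero_tmul]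
  have hπ0 : algebraMap R O π ≠ 0 := (map_ne_zero_iff _ (algebraMap_injective R O)).mpr hπ.ne_zero
  haveI : Ring.KrullDimLE 0 (k ⊗[R] O) := Ring.KrullDimLE.mk₀ fun P hP => by
    haveI := hP
    have hne : P.comap θ.toRingHom ≠ ⊥ := fun h => hπ0 (by
      have h1 : algebraMap R O π ∈ P.comap θ.toRingHom := by
        show θ (algebraMap R O π) ∈ P
        rw [hθπ]
        exact zero_mem _
      rwa [h] at h1)
    haveI := Ideal.isMaximal_of_isPrime_of_ne_bot (P.comap θ.toRingHom) hne
    exact (Ideal.map_comap_of_surjective θ.toRingHom hθ P) ▸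
      (Ideal.map_eq_top_or_isMaximal_of_surjective θ.toRingHom hθ ‹_›).resolve_left
        (by rw [Ideal.map_comap_of_surjective θ.toRingHom hθ P]; exact hP.ne_top)
  haveI : IsNoetherianRing (k ⊗[R] O) := isNoetherianRing_of_surjective O _ θ.toRingHom hθ
  haveI : IsArtinianRing (k ⊗[R] O) :=
    isArtinianRing_iff_isNoetherianRing_krullDimLE_zero.mpr ⟨inferInstance, inferInstance⟩
  haveI := Groth.L03.GeomReduced.perfectField_bot k
  haveI : Algebra.FormallySmooth (⊥ : Subfield k) k :=
    Groth.L03.FieldFS.formallySmooth_of_perfectField _ _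
  haveI : Algebra.FormallySmooth (⊥ : Subfield k) (k ⊗[R] O) := .comp _ k _
  haveI : IsReduced (k ⊗[R] O) :=
    Groth.L03.GeomReduced.isReduced_of_formallySmooth (⊥ : Subfield k) (k ⊗[R] O)
  refine le_antisymm (Ideal.map_le_iff_le_comap.mpr fun r hr => map_nonunit (algebraMap R O) r hr) fun o ho => ?_
  have h1 : IsNilpotent (θ o) := nilpotent_iff_mem_prime.mpr fun P hP => by
    haveI := hP
    haveI : (P.comap θ.toRingHom).IsPrime := Ideal.comap_isPrime _ _
    haveI : P.IsMaximal := Ideal.isMaximal_of_isPrime P
    haveI : (P.comap θ.toRingHom).IsMaximal := Ideal.comap_isMaximal_of_surjective _ hθ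
    show o ∈ P.comap θ.toRingHom
    rwa [IsLocalRing.eq_maximalIdeal ‹(P.comap θ.toRingHom).IsMaximal›]
  have h2 : (1 : R ⧸ maximalIdeal R) ⊗ₜ[R] o = 0 := h1.eq_zero
  rw [← Algebra.TensorProduct.quotIdealMapEquivQuotTensor_mk, EmbeddingLike.map_eq_zero_iff] at h2
  exact Ideal.Quotient.eq_zero_iff_mem.mp h2

/-- Such an algebra has a strict henselisation which is a discrete valuation ring, unramified over
the base, with geometrically reduced residue field. -/
theorem exists_dvr_strict (hdim : ringKrullDim O ≤ 1) :
    ∃ (R' : Type u) (_ : CommRing R') (_ : IsDomain R') (_ : IsDiscreteValuationRing R')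
      (_ : Algebra R R') (_ : IsLocalHom (algebraMap R R')) (_ : HenselianLocalRing R')
      (_ : IsSepClosed (ResidueField R')) (ψ : O →+* R'),
      IsLocalHom ψ ∧ Function.Injective ψ ∧ ψ.comp (algebraMap R O) = algebraMap R R' ∧
      (maximalIdeal R).map (algebraMap R R') = maximalIdeal R' ∧
      Algebra.IsGeometricallyReduced (ResidueField R) (ResidueField R') := by
  obtain ⟨π, hπ⟩ := IsDiscreteValuationRing.exists_irreducible R
  have hmO := map_maximalIdeal_eq R O hdim
  obtain ⟨R', _, _, _, _, hS⟩ := Groth.L05.Henselization.exists_isStrictHenselization O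
  haveI : Module.Flat O R' := Groth.L05.Henselization.flat_of_isStrictHenselization O R'
  letI : Algebra R R' := ((algebraMap O R').comp (algebraMap R O)).toAlgebra
  haveI : IsScalarTower R O R' := IsScalarTower.of_algebraMap_eq' rfl
  haveI : IsLocalHom (algebraMap R R') := RingHom.isLocalHom_comp _ _
  haveI : Module.Flat R R' := Module.Flat.trans R O R'
  have hmR' : (maximalIdeal R).map (algebraMap R R') = maximalIdeal R' := by
    rw [IsScalarTower.algebraMap_eq R O R', ← Ideal.map_map, hmO,
      Groth.L05.Henselization.map_maximalIdeal_of_isStrictHenselization]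
  haveI : IsNoetherianRing R' :=
    (Groth.L05.Henselization.isNoetherianRing_iff_strict O R').1 inferInstance
  haveI : Module.FaithfullyFlat R R' := Module.FaithfullyFlat.of_flat_of_isLocalHom
  haveI : Module.IsTorsionFree R R' := inferInstance
  have hτ : maximalIdeal R' = Ideal.span {algebraMap R R' π} := by
    rw [← hmR', hπ.maximalIdeal_eq, Ideal.map_span, Set.image_singleton]
  haveI : IsDomain R' := Groth.L28.CdLower.isDomain_of_principal_regular _ hτ fun x hx =>
    (smul_eq_zero_iff_right hπ.ne_zero).1 (by rw [Algebra.smul_def]; exact hx)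
  have hne : ¬ IsField R' := fun h => by
    rw [IsLocalRing.isField_iff_maximalIdeal_eq, hτ, Ideal.span_singleton_eq_bot] at h
    exact hπ.ne_zero (FaithfulSMul.algebraMap_injective R R' (h.trans (map_zero _).symm))
  haveI : IsDiscreteValuationRing R' :=
    ((IsDiscreteValuationRing.TFAE R' hne).out 4 0).mp (⟨_, hτ⟩ : (maximalIdeal R').IsPrincipal)
  haveI : IsSepClosed (ResidueField R') := hS.isSepClosure.sep_closed
  haveI : Algebra.IsSeparable (ResidueField O) (ResidueField R') := hS.isSepClosure.separable
  haveI : Algebra.FormallyEtale (ResidueField O) (ResidueField R') :=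
    Algebra.FormallyEtale.of_isSeparable _ _
  haveI : IsScalarTower (ResidueField R) (ResidueField O) (ResidueField R') :=
    IsScalarTower.of_algebraMap_eq fun x => by
      obtain ⟨r, rfl⟩ := IsLocalRing.residue_surjective x
      rfl
  let φ : ResidueField R ⊗[R] O →ₐ[ResidueField R] ResidueField O :=
    Algebra.TensorProduct.lift (Algebra.ofId _ _) (IsScalarTower.toAlgHom R O (ResidueField O))
      fun _ _ => mul_comm _ _
  have hφ : ∀ o : O, φ (1 ⊗ₜ o) = residue O o := fun o =>
    (Algebra.TensorProduct.lift_tmul _ _ _ _ _).trans (by rw [map_one, one_mul]; rfl)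
  have hφb : Function.Bijective φ := by
    refine ⟨(injective_iff_map_eq_zero φ).2 fun z hz => ?_, fun y => ?_⟩
    · obtain ⟨o, rfl⟩ := exists_one_tmul R O z
      rw [hφ, residue_eq_zero_iff, ← hmO] at hz
      have h0 : Ideal.Quotient.mk ((maximalIdeal R).map (algebraMap R O)) o = 0 :=
        Ideal.Quotient.eq_zero_iff_mem.mpr hz
      have h1 := congrArg (Algebra.TensorProduct.quotIdealMapEquivQuotTensor O (maximalIdeal R)) h0
      rwa [Algebra.TensorProduct.quotIdealMapEquivQuotTensor_mk, map_zero] at h1
    · obtain ⟨o, rfl⟩ := IsLocalRing.residue_surjective y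
      exact ⟨1 ⊗ₜ o, hφ o⟩
  haveI : Algebra.FormallySmooth (ResidueField R) (ResidueField O) :=
    Algebra.FormallySmooth.of_equiv (AlgEquiv.ofBijective φ hφb)
  haveI : Algebra.FormallySmooth (ResidueField R) (ResidueField R') := .comp _ (ResidueField O) _
  exact ⟨R', inferInstance, inferInstance, inferInstance, inferInstance, inferInstance, hS.henselian,
    inferInstance, algebraMap O R', inferInstance,
    (Groth.L15.NeronExt.injective_of_local_flat O R'), rfl, hmR',
    (Groth.L03.GeomReduced.formallySmooth_iff _ _).1 inferInstance⟩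

end Groth.L15.NeronExt
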