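import Groth.Agent.L26.Weil.Generic
import Groth.Agent.L26.Neron.Basic
import Groth.Agent.L18.ExtendCodimOne
import Groth.Prelude.Def_Neron
import Mathlib.AlgebraicGeometry.SpreadingOut

/-!
# The Néron mapping property from extension at the generic points of the special fibre
-/

set_option autoImplicit false
set_option linter.style.haveILetI false
set_option backward.isDefEq.respectTransparency.types false

universe u

open CategoryTheory CategoryTheory.Limits AlgebraicGeometry

namespace Groth.L15.NeronExt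

open Groth.L18.Codim1 (eta eta_mem_of_dense eta_specializes_of_specializes exists_nhds_subset_closure)

variable {S X G : Scheme.{u}} (pX : X ⟶ S) (pG : G ⟶ S)

/-- A rational map into a separated scheme extends at a point with valuation local ring as soon as
its graph has a point over that point in the closure of the generic one. -/
theorem definedAt_of_specializes [IsLocallyNoetherian X] [IsReduced X] [IsSeparated pG]
    [LocallyOfFiniteType pG] (U : X.Opens) (hU : Dense (U : Set X)) (f : (U : Scheme.{u}) ⟶ G)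
    (hf : f ≫ pG = U.ι ≫ pX) (y : X) [IsDomain (X.presheaf.stalk y)]
    [ValuationRing (X.presheaf.stalk y)] (n : ↥(pullback pG pX)) (hn : pullback.snd pG pX n = y)
    (hclos : ∀ w : ↥(U : Scheme.{u}), U.ι w = eta X y → pullback.lift f U.ι hf w ⤳ n) :
    Groth.L26.Weil.DefinedAt pX pG U f y := by
  let q : pullback pG pX ⟶ X := pullback.snd pG pX
  let s : (U : Scheme.{u}) ⟶ pullback pG pX := pullback.lift f U.ι hf
  have hs : s ≫ q = U.ι := pullback.lift_snd _ _ _
  have hηU := eta_mem_of_dense y hU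
  subst hn
  let y := q n
  let K := FractionRing (X.presheaf.stalk y)
  let ι : Spec (CommRingCat.of K) ⟶ Spec (X.presheaf.stalk y) :=
    Spec.map (CommRingCat.ofHom (algebraMap (X.presheaf.stalk y) K))
  have hι : ∀ t, (ι ≫ X.fromSpecStalk y) t = eta X y := fun t => by
    rw [Scheme.Hom.comp_apply]
    congr 1
    apply PrimeSpectrum.ext
    change Ideal.comap (algebraMap (X.presheaf.stalk y) K) t.asIdeal = ⊥
    rw [(Ideal.eq_bot_or_top t.asIdeal).resolve_right t.isPrime.ne_top]
    exact (RingHom.injective_iff_ker_eq_bot _).mp (IsFractionRing.injective _ K)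
  let eU : Spec (CommRingCat.of K) ⟶ U := IsOpenImmersion.lift U.ι (ι ≫ X.fromSpecStalk y) (by
    rw [Scheme.Opens.range_ι]
    rintro _ ⟨t, rfl⟩
    rw [hι]
    exact hηU)
  have heU : eU ≫ U.ι = ι ≫ X.fromSpecStalk y := IsOpenImmersion.lift_fac _ _ _
  let m : Spec (CommRingCat.of K) ⟶ pullback pG pX := eU ≫ s
  have hm : m ≫ q = ι ≫ X.fromSpecStalk y := by rw [Category.assoc, hs, heU]
  let pt : ↥(Spec (CommRingCat.of K)) := IsLocalRing.closedPoint K
  have hpt : U.ι (eU pt) = eta X y :=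
    (congrArg (fun φ : Spec (CommRingCat.of K) ⟶ X => φ pt) heU).trans (hι pt)
  have hzn : m pt ⤳ n := hclos (eU pt) hpt
  let β : (pullback pG pX).presheaf.stalk n ⟶ CommRingCat.of K :=
    (pullback pG pX).presheaf.stalkSpecializes hzn ≫ Scheme.stalkClosedPointTo m
  have hβm : Spec.map β ≫ (pullback pG pX).fromSpecStalk n = m := by
    rw [Spec.map_comp, Category.assoc, Scheme.SpecMap_stalkSpecializes_fromSpecStalk]
    exact Scheme.Spec_stalkClosedPointTo_fromSpecStalk m
  have hβ : q.stalkMap n ≫ β = CommRingCat.ofHom (algebraMap (X.presheaf.stalk y) K) := by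
    apply Spec.map_injective
    rw [← cancel_mono (X.fromSpecStalk (q n)), Spec.map_comp, Category.assoc,
      Scheme.SpecMap_stalkMap_fromSpecStalk, ← Category.assoc, hβm, hm]
    rfl
  have hmem : ∀ a, β.hom a ∈ (algebraMap (X.presheaf.stalk y) K).range := by
    intro a
    rcases ValuationRing.isInteger_or_isInteger (X.presheaf.stalk y) (β.hom a) with h | ⟨v, hv⟩
    · exact h
    by_cases h0 : β.hom a = 0
    · exact ⟨0, by rw [h0, map_zero]⟩
    by_cases hvu : IsUnit v
    · exact ⟨(hvu.unit⁻¹ : (X.presheaf.stalk y)ˣ), by rw [map_units_inv, IsUnit.unit_spec, hv, inv_inv]⟩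
    exfalso
    have h1 : β.hom ((q.stalkMap n).hom v * a) = 1 := by
      rw [map_mul, show β.hom ((q.stalkMap n).hom v) = algebraMap _ K v from ConcreteCategory.congr_hom hβ v,
        hv, inv_mul_cancel₀ h0]
    have hnu : ¬ IsUnit ((q.stalkMap n).hom v * a) := fun h =>
      hvu (isUnit_of_map_unit (q.stalkMap n).hom v (isUnit_of_mul_isUnit_left h))
    have h2 := ((IsLocalRing.isUnit_or_isUnit_one_sub_self _).resolve_left hnu).map β.hom
    rw [map_sub, map_one, h1, sub_self] at h2
    exact not_isUnit_zero h2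
  choose γ hγ using hmem
  have hinj := IsFractionRing.injective (X.presheaf.stalk y) K
  let γh : (pullback pG pX).presheaf.stalk n ⟶ X.presheaf.stalk y := CommRingCat.ofHom
    { toFun := γ
      map_one' := hinj ((hγ _).trans ((map_one β.hom).trans (map_one _).symm))
      map_mul' := fun a b => hinj ((hγ _).trans ((map_mul β.hom a b).trans
        ((congrArg₂ (· * ·) (hγ a).symm (hγ b).symm).trans (map_mul _ _ _).symm)))
      map_zero' := hinj ((hγ _).trans ((map_zero β.hom).trans (map_zero _).symm))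
      map_add' := fun a b => hinj ((hγ _).trans ((map_add β.hom a b).trans
        ((congrArg₂ (· + ·) (hγ a).symm (hγ b).symm).trans (map_add _ _ _).symm))) }
  have hsec : q.stalkMap n ≫ γh = 𝟙 _ := by
    ext v
    exact hinj ((hγ _).trans (ConcreteCategory.congr_hom hβ v))
  let φ : Spec (X.presheaf.stalk y) ⟶ G :=
    (Spec.map γh ≫ (pullback pG pX).fromSpecStalk n) ≫ pullback.fst pG pX
  have hφ : φ ≫ pG = X.fromSpecStalk y ≫ pX := by
    simp only [φ, Category.assoc]
    rw [pullback.condition, show pullback.snd pG pX = q from rfl, ← Scheme.SpecMap_stalkMap_fromSpecStalk_assoc,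
      ← Spec.map_comp_assoc, hsec, Spec.map_id, Category.id_comp]
  have hφm : ι ≫ φ = eU ≫ f := by
    have h1 : ι ≫ Spec.map γh ≫ (pullback pG pX).fromSpecStalk n = m := by
      rw [← hβm]
      refine (Category.assoc _ _ _).symm.trans ?_
      refine congrArg (· ≫ (pullback pG pX).fromSpecStalk n) ((Spec.map_comp _ _).symm.trans (congrArg Spec.map ?_))
      ext a
      exact hγ a
    show ι ≫ (Spec.map γh ≫ (pullback pG pX).fromSpecStalk n) ≫ pullback.fst pG pX = _
    rw [← Category.assoc, h1, Category.assoc, pullback.lift_fst]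
  obtain ⟨W₀, hyW₀, h₀, hh₀, hh₀G⟩ := spread_out_of_isGermInjective' pX pG φ hφ
  obtain ⟨N, hyN, hN⟩ := exists_nhds_subset_closure y
  let V : X.Opens := W₀ ⊓ N
  refine ⟨V, X.homOfLE inf_le_left ≫ h₀, ⟨hyW₀, hyN⟩,
    by rw [Category.assoc, hh₀G, Scheme.homOfLE_ι_assoc], ?_⟩
  have hηV : eta X y ∈ V :=
    (eta_specializes_of_specializes (specializes_refl y)).mem_open V.2 ⟨hyW₀, hyN⟩
  let e : Spec (CommRingCat.of K) ⟶ (U ⊓ V : X.Opens) :=
    IsOpenImmersion.lift (U ⊓ V).ι (ι ≫ X.fromSpecStalk y) (by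
      rw [Scheme.Opens.range_ι]
      rintro _ ⟨t, rfl⟩
      rw [hι]
      exact ⟨hηU, hηV⟩)
  have he : e ≫ (U ⊓ V).ι = ι ≫ X.fromSpecStalk y := IsOpenImmersion.lift_fac _ _ _
  haveI : IsDominant e := by
    refine ⟨fun z => ?_⟩
    refine closure_mono (Set.singleton_subset_iff.mpr (Set.mem_range_self pt)) (specializes_iff_mem_closure.mp ?_)
    rw [← (U ⊓ V).ι.isOpenEmbedding.isInducing.specializes_iff, ← Scheme.Hom.comp_apply, he, hι]
    exact hN _ z.2.2.2
  haveI : IsReduced ((U ⊓ V : X.Opens) : Scheme.{u}) := isReduced_of_isOpenImmersion (U ⊓ V).ι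
  refine ext_of_isDominant_of_isSeparated pG ?_ e ?_
  · simp only [Category.assoc, hh₀G, hf, Scheme.homOfLE_ι_assoc]
  · have hA : e ≫ X.homOfLE (inf_le_left : U ⊓ V ≤ U) = eU := by
      rw [← cancel_mono U.ι, Category.assoc, Scheme.homOfLE_ι, he, heU]
    have hB : e ≫ X.homOfLE (inf_le_right : U ⊓ V ≤ V) ≫ X.homOfLE (inf_le_left : V ≤ W₀) =
        ι ≫ W₀.fromSpecStalkOfMem y hyW₀ := by
      rw [← cancel_mono W₀.ι]
      simp only [Category.assoc, Scheme.homOfLE_ι, he, Scheme.Opens.fromSpecStalkOfMem_ι]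
    simp only [← Category.assoc] at hB ⊢
    rw [hB, hA, Category.assoc, ← hh₀, hφm]

/-- A map on a dense open extends to an open containing every point at which it is defined. -/
theorem exists_extension_defined [IsReduced X] [IsSeparated pG] (U : X.Opens) (hU : Dense (U : Set X))
    (f : (U : Scheme.{u}) ⟶ G) (hf : f ≫ pG = U.ι ≫ pX) :
    ∃ (W : X.Opens) (hUW : U ≤ W) (g : (W : Scheme.{u}) ⟶ G), g ≫ pG = W.ι ≫ pX ∧
      X.homOfLE hUW ≫ g = f ∧ ∀ x, Groth.L26.Weil.DefinedAt pX pG U f x → x ∈ W := by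
  let I := {p : Σ V : X.Opens, ((V : Scheme.{u}) ⟶ G) // p.2 ≫ pG = p.1.ι ≫ pX ∧
    X.homOfLE (inf_le_right : U ⊓ p.1 ≤ p.1) ≫ p.2 = X.homOfLE (inf_le_left : U ⊓ p.1 ≤ U) ≫ f}
  let V : I → X.Opens := fun i => i.1.1
  let v : I := ⟨⟨U, f⟩, hf, rfl⟩
  have hc : ∀ a b : I, X.homOfLE (inf_le_left : V a ⊓ V b ≤ V a) ≫ a.1.2 =
      X.homOfLE (inf_le_right : V a ⊓ V b ≤ V b) ≫ b.1.2 := fun a b => by
    refine Groth.L26.Weil.ext_dense_opens pG ?_ hU ?_
    · rw [Category.assoc, Category.assoc, a.2.1, b.2.1, Scheme.homOfLE_ι_assoc, Scheme.homOfLE_ι_assoc]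
    · have ha := congrArg (fun φ => X.homOfLE (le_inf inf_le_left (inf_le_right.trans inf_le_left) :
        U ⊓ (V a ⊓ V b) ≤ U ⊓ V a) ≫ φ) a.2.2
      have hb := congrArg (fun φ => X.homOfLE (le_inf inf_le_left (inf_le_right.trans inf_le_right) :
        U ⊓ (V a ⊓ V b) ≤ U ⊓ V b) ≫ φ) b.2.2
      simp only [Scheme.homOfLE_homOfLE_assoc] at ha hb
      rw [Scheme.homOfLE_homOfLE_assoc, Scheme.homOfLE_homOfLE_assoc, ha, hb]
  let 𝒰 := Scheme.Opens.iSupOpenCover V
  have hglue : ∀ a b : I, pullback.fst (𝒰.f a) (𝒰.f b) ≫ a.1.2 = pullback.snd (𝒰.f a) (𝒰.f b) ≫ b.1.2 := by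
    intro a b
    have hp : IsPullback (X.homOfLE (inf_le_left : V a ⊓ V b ≤ V a)) (X.homOfLE (inf_le_right : V a ⊓ V b ≤ V b))
        (X.homOfLE (le_iSup V a)) (X.homOfLE (le_iSup V b)) :=
      isPullback_opens_inf_le (le_iSup V a) (le_iSup V b)
    refine (cancel_epi hp.isoPullback.hom).mp ?_
    simp only [𝒰, Scheme.Opens.iSupOpenCover, IsPullback.isoPullback_hom_fst_assoc, IsPullback.isoPullback_hom_snd_assoc]
    exact hc a b
  refine ⟨⨆ i, V i, le_iSup V v, 𝒰.glueMorphisms (fun a => a.1.2) hglue, ?_, ?_, fun x hx => ?_⟩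
  · refine 𝒰.hom_ext _ _ fun a => ?_
    rw [← Category.assoc]
    exact (congrArg (· ≫ pG) (Scheme.Cover.ι_glueMorphisms 𝒰 _ hglue a)).trans
      (a.2.1.trans (Scheme.homOfLE_ι_assoc X (le_iSup V a) pX).symm)
  · exact 𝒰.ι_glueMorphisms (fun a => a.1.2) hglue v
  · obtain ⟨V', g, hxV, hg, hag⟩ := hx
    exact TopologicalSpace.Opens.mem_iSup.mpr ⟨⟨⟨V', g⟩, hg, hag⟩, hxV⟩

/-- The mapping property follows from extension at the points of codimension one of the special
fibre. -/
theorem bijective_map_of_extends (R : Type u) [CommRing R] [IsDomain R] [IsDiscreteValuationRing R]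
    (N Y : Over (Spec (CommRingCat.of R))) [GrpObj N] [IsSeparated N.hom]
    [LocallyOfFiniteType N.hom] [Smooth Y.hom]
    (H : ∀ (U : Y.left.Opens) (f : (U : Scheme.{u}) ⟶ N.left) (hf : f ≫ N.hom = U.ι ≫ Y.hom),
      Set.range (pullback.fst Y.hom (Neron.genPt R)) ⊆ U →
      ∀ (y : Y.left) [IsDomain (Y.left.presheaf.stalk y)],
        ringKrullDim (Y.left.presheaf.stalk y) ≤ 1 → Y.hom y = IsLocalRing.closedPoint R →
          ∃ n : ↥(pullback N.hom Y.hom), pullback.snd N.hom Y.hom n = y ∧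
            ∀ w : ↥(U : Scheme.{u}), U.ι w = eta Y.left y → pullback.lift f U.ι hf w ⤳ n) :
    Function.Bijective (fun g : Y ⟶ N => (Neron.genericFibre R).map g) := by
  haveI : IsLocallyNoetherian Y.left := LocallyOfFiniteType.isLocallyNoetherian Y.hom
  haveI : IsReduced Y.left :=
    Groth.L26.Weil.isReduced_of_regular_stalks (Groth.L26.Weil.regular_stalk Y.hom)
  haveI : IsReduced (pullback Y.hom (Neron.genPt R)) :=
    Groth.L23.isReduced_of_smooth (pullback.snd Y.hom (Neron.genPt R))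
  haveI : GrpObj (Over.mk N.hom) := ‹GrpObj N›
  rw [Groth.Agent.NeronL.map_bijective_iff]
  intro v hv
  obtain ⟨U, f, hf, hgen, hfv⟩ := Groth.L26.Weil.exists_spread Y.hom N.hom
    (fun x => by
      haveI := Groth.L26.Weil.regular_stalk Y.hom x
      exact Groth.L01.isDomain_of_regular _) v hv
  have hdef : ∀ y : Y.left, ringKrullDim (Y.left.presheaf.stalk y) ≤ 1 →
      Groth.L26.Weil.DefinedAt Y.hom N.hom U f y := by
    intro y hy
    haveI := Groth.L26.Weil.regular_stalk Y.hom y
    obtain ⟨hd, hvr⟩ := Groth.L18.Codim1.isDomain_valuationRing_of_regular _ hy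
    haveI := hvr
    by_cases hgy : Y.hom y = IsLocalRing.closedPoint R
    · obtain ⟨n, hn, hcl⟩ := H U f hf hgen y hy hgy
      exact definedAt_of_specializes Y.hom N.hom U
        ((Groth.L26.Weil.dense_range_fst Y.hom).mono hgen) f hf y n hn hcl
    · refine Groth.L26.Weil.definedAt_of_mem _ _ _ _ hf (hgen ?_)
      rw [Scheme.Pullback.range_fst, Groth.L26.Weil.range_gen]
      refine PrimeSpectrum.ext ?_
      by_contra hne
      exact hgy (PrimeSpectrum.ext (IsLocalRing.eq_maximalIdeal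
        ((Y.hom y).isPrime.isMaximal hne)))
  obtain ⟨W, hUW, g, hg, hgf, hW⟩ := exists_extension_defined Y.hom N.hom U
    ((Groth.L26.Weil.dense_range_fst Y.hom).mono hgen) f hf
  obtain ⟨F, ⟨hF1, hF2⟩, -⟩ := Groth.L26.Weil.existsUnique_of_codimOne
    (Groth.L26.Weil.mem_of_dim_le_one_fibrewiseDense Y.hom W fun y hy => hW y (hdef y hy)) g hg
    fun y hy => Groth.L26.Weil.definedAt_of_mem _ _ _ _ hg (hW y (hdef y hy))
  have hFv : pullback.fst Y.hom (Neron.genPt R) ≫ F = v := by
    let a : pullback Y.hom (Neron.genPt R) ⟶ (U : Scheme.{u}) :=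
      IsOpenImmersion.lift U.ι (pullback.fst Y.hom (Neron.genPt R))
        (by rw [Scheme.Opens.range_ι]; exact hgen)
    have ha : a ≫ U.ι = pullback.fst Y.hom (Neron.genPt R) := IsOpenImmersion.lift_fac _ _ _
    rw [← ha, Category.assoc, ← Scheme.homOfLE_ι_assoc Y.left hUW, hF2, hgf]
    exact (hfv a (𝟙 _) (by rw [ha, Category.id_comp])).trans (Category.id_comp v)
  refine ⟨Over.homMk F hF1, hFv, fun F' hF' => ?_⟩
  refine Over.OverMorphism.ext ?_
  refine Groth.L26.Weil.ext_generic Y.hom N.hom (𝟙 Y.left) F'.left F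
    ((Over.w F').trans hF1.symm) fun {Z} a b hab => ?_
  rw [Category.comp_id] at hab
  rw [hab, Category.assoc, Category.assoc, hF', hFv]

end Groth.L15.NeronExt
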