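import Groth.Agent.L15.NeronExt.Alg
import Groth.Agent.L15.NeronExt.Extend
import Mathlib.RingTheory.RingHom.Flat
import Mathlib.RingTheory.RingHom.Smooth
import Mathlib.RingTheory.Smooth.Flat

/-!
# Extension of points with values in strict henselisations gives the Néron mapping property
-/

set_option autoImplicit false
set_option linter.style.haveILetI false
set_option backward.isDefEq.respectTransparency.types false

universe u

open CategoryTheory CategoryTheory.Limits AlgebraicGeometry

namespace Groth.L15.NeronExt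

open Groth.L18.Codim1 (eta)

theorem exists_stalk_hom {R : Type u} [CommRing R] {X : Scheme.{u}}
    (q : X ⟶ Spec (CommRingCat.of R)) [Smooth q] (y : X) :
    ∃ ρ : R →+* X.presheaf.stalk y, Spec.map (CommRingCat.ofHom ρ) = X.fromSpecStalk y ≫ q ∧
      ρ.Flat ∧ ρ.FormallySmooth := by
  obtain ⟨_, ⟨W, hW, rfl⟩, hyW, -⟩ := X.isBasis_affineOpens.exists_subset_of_mem_open
    (Set.mem_univ y) isOpen_univ
  have hsm : (q.appLE ⊤ W le_top).hom.Smooth :=
    HasRingHomProperty.appLE @Smooth q ‹_› ⟨⊤, isAffineOpen_top _⟩ ⟨W, hW⟩ le_top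
  let φ : R →+* Γ(X, W) := ((Scheme.ΓSpecIso (CommRingCat.of R)).inv ≫ q.appLE ⊤ W le_top).hom
  have hφ : φ.Smooth := RingHom.Smooth.respectsIso.2 _
    (Scheme.ΓSpecIso (CommRingCat.of R)).symm.commRingCatIsoToRingEquiv hsm
  let g : Γ(X, W) →+* X.presheaf.stalk y := (X.presheaf.germ W y hyW).hom
  refine ⟨g.comp φ, ?_, ?_⟩
  · rw [show CommRingCat.ofHom (g.comp φ) = ((Scheme.ΓSpecIso (CommRingCat.of R)).inv ≫
      q.appLE ⊤ W le_top) ≫ X.presheaf.germ W y hyW from rfl, Spec.map_comp, Spec.map_comp,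
      ← hW.fromSpecStalk_eq_fromSpecStalk hyW, IsAffineOpen.fromSpecStalk, Category.assoc,
      ← IsAffineOpen.SpecMap_appLE_fromSpec q (isAffineOpen_top _) hW le_top,
      IsAffineOpen.fromSpec_top, Scheme.isoSpec_Spec_inv]
  letI := φ.toAlgebra
  haveI : Algebra.Smooth R Γ(X, W) := RingHom.smooth_algebraMap.mp hφ
  letI := X.presheaf.algebra_section_stalk ⟨y, hyW⟩
  haveI := hW.isLocalization_stalk ⟨y, hyW⟩
  letI : Algebra R (X.presheaf.stalk y) := (g.comp φ).toAlgebra
  haveI : IsScalarTower R Γ(X, W) (X.presheaf.stalk y) := IsScalarTower.of_algebraMap_eq' rfl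
  haveI : Module.Flat Γ(X, W) (X.presheaf.stalk y) :=
    IsLocalization.flat _ (hW.primeIdealOf ⟨y, hyW⟩).asIdeal.primeCompl
  haveI : Algebra.FormallySmooth Γ(X, W) (X.presheaf.stalk y) :=
    .of_isLocalization (hW.primeIdealOf ⟨y, hyW⟩).asIdeal.primeCompl
  haveI : Module.Flat R (X.presheaf.stalk y) := Module.Flat.trans R Γ(X, W) _
  haveI : Algebra.FormallySmooth R (X.presheaf.stalk y) := .comp R Γ(X, W) _
  exact ⟨RingHom.flat_algebraMap_iff.mpr inferInstance, RingHom.formallySmooth_algebraMap.mpr inferInstance⟩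

/-- The valuative criterion for the Néron mapping property, over unramified strictly henselian
discrete valuation rings. -/
theorem bijective_of_points (R : Type u) [CommRing R] [IsDomain R] [IsDiscreteValuationRing R]
    (G : Over (Spec (CommRingCat.of R))) [GrpObj G] [LocallyOfFiniteType G.hom] [IsSeparated G.hom]
    (h : ∀ (R' : Type u) [CommRing R'] [IsDomain R'] [IsDiscreteValuationRing R'] [Algebra R R']
        [IsLocalHom (algebraMap R R')] [HenselianLocalRing R'] [IsSepClosed (IsLocalRing.ResidueField R')],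
      (IsLocalRing.maximalIdeal R).map (algebraMap R R') = IsLocalRing.maximalIdeal R' →
      Algebra.IsGeometricallyReduced (IsLocalRing.ResidueField R) (IsLocalRing.ResidueField R') →
      ∀ x : Spec (CommRingCat.of (FractionRing R')) ⟶ G.left,
        x ≫ G.hom = Spec.map (CommRingCat.ofHom ((algebraMap R' (FractionRing R')).comp (algebraMap R R'))) →
        ∃ y : Spec (CommRingCat.of R') ⟶ G.left, y ≫ G.hom = Spec.map (CommRingCat.ofHom (algebraMap R R')) ∧
          Spec.map (CommRingCat.ofHom (algebraMap R' (FractionRing R'))) ≫ y = x)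
    (Y : Over (Spec (CommRingCat.of R))) [Smooth Y.hom] :
    Function.Bijective (fun g : Y ⟶ G => (Neron.genericFibre R).map g) := by
  haveI : IsLocallyNoetherian Y.left := LocallyOfFiniteType.isLocallyNoetherian Y.hom
  refine bijective_map_of_extends R G Y fun U f hf hgen y _ hy hys => ?_
  let O := Y.left.presheaf.stalk y
  obtain ⟨ρ, hρ, hfl, hfs⟩ := exists_stalk_hom Y.hom y
  letI : Algebra R O := ρ.toAlgebra
  haveI : Module.Flat R O := hfl
  haveI : Algebra.FormallySmooth R O := hfs
  haveI : IsLocalHom (algebraMap R O) := ⟨fun r hr => by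
    by_contra hn
    have h1 : Spec.map (CommRingCat.ofHom ρ) (IsLocalRing.closedPoint O) = IsLocalRing.closedPoint R :=
      (congrArg (fun φ : Spec (CommRingCat.of O) ⟶ Spec (CommRingCat.of R) =>
        φ (IsLocalRing.closedPoint O)) hρ).trans
        ((congrArg Y.hom Scheme.fromSpecStalk_closedPoint).trans hys)
    have h2 : r ∈ (Spec.map (CommRingCat.ofHom ρ) (IsLocalRing.closedPoint O)).asIdeal := by
      rw [h1]; exact (IsLocalRing.mem_maximalIdeal r).mpr hn
    exact h2 hr⟩
  obtain ⟨R', _, _, _, _, _, _, _, ψ, hψl, hψ, hψR, hm, hred⟩ := exists_dvr_strict R O hy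
  haveI := hψl
  have hρ' : Spec.map (CommRingCat.ofHom ψ) ≫ Y.left.fromSpecStalk y ≫ Y.hom =
      Spec.map (CommRingCat.ofHom (algebraMap R R')) := by
    rw [← hρ, ← Spec.map_comp, ← hψR]
    rfl
  let K' := FractionRing R'
  let gK : Spec (CommRingCat.of K') ⟶ Spec (CommRingCat.of R') :=
    Spec.map (CommRingCat.ofHom (algebraMap R' K'))
  let c : Spec (CommRingCat.of R') ⟶ Y.left := Spec.map (CommRingCat.ofHom ψ) ≫ Y.left.fromSpecStalk y
  have hη : ∀ t, (gK ≫ c) t = eta Y.left y := fun t => by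
    rw [Scheme.Hom.comp_apply, Scheme.Hom.comp_apply]
    refine congrArg _ (PrimeSpectrum.ext ?_)
    change Ideal.comap ψ (Ideal.comap (algebraMap R' K') t.asIdeal) = ⊥
    rw [(Ideal.eq_bot_or_top t.asIdeal).resolve_right t.isPrime.ne_top, Ideal.comap_comap]
    exact (RingHom.injective_iff_ker_eq_bot _).mp ((IsFractionRing.injective R' K').comp hψ)
  have hηU := Groth.L18.Codim1.eta_mem_of_dense y ((Groth.L26.Weil.dense_range_fst Y.hom).mono hgen)
  let j : Spec (CommRingCat.of K') ⟶ (U : Scheme.{u}) := IsOpenImmersion.lift U.ι (gK ≫ c) (by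
    rw [Scheme.Opens.range_ι]
    rintro _ ⟨t, rfl⟩
    rw [hη]
    exact hηU)
  have hj : j ≫ U.ι = gK ≫ c := IsOpenImmersion.lift_fac _ _ _
  obtain ⟨y', hy', hy'x⟩ := h R' hm hred (j ≫ f) (by
    rw [Category.assoc, hf, reassoc_of% hj]
    show gK ≫ c ≫ Y.hom = _
    rw [show c ≫ Y.hom = Spec.map (CommRingCat.ofHom (algebraMap R R')) from
      (Category.assoc _ _ _).trans hρ', ← Spec.map_comp]
    rfl)
  let a : Spec (CommRingCat.of R') ⟶ pullback G.hom Y.hom :=
    pullback.lift y' c (hy'.trans ((Category.assoc _ _ _).trans hρ').symm)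
  have ha : gK ≫ a = j ≫ pullback.lift f U.ι hf := by
    apply pullback.hom_ext <;> simp only [a, Category.assoc, pullback.lift_fst, pullback.lift_snd]
    · exact hy'x
    · exact hj.symm
  refine ⟨a (IsLocalRing.closedPoint R'), ?_, fun w hw => ?_⟩
  · rw [← Scheme.Hom.comp_apply, pullback.lift_snd, Scheme.Hom.comp_apply,
      show Spec.map (CommRingCat.ofHom ψ) (IsLocalRing.closedPoint R') = IsLocalRing.closedPoint O from
        IsLocalRing.comap_closedPoint ψ]
    exact Scheme.fromSpecStalk_closedPoint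
  · let t : ↥(Spec (CommRingCat.of K')) := IsLocalRing.closedPoint K'
    have hjt : j t = w := U.ι.isEmbedding.injective
      (((congrArg (fun φ : Spec (CommRingCat.of K') ⟶ Y.left => φ t) hj).trans (hη t)).trans hw.symm)
    rw [← hjt, ← Scheme.Hom.comp_apply, ← ha, Scheme.Hom.comp_apply]
    exact (IsLocalRing.specializes_closedPoint (gK t)).map a.continuous

end Groth.L15.NeronExt
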