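import Groth.Agent.L15.NeronExt.Points
import Groth.Agent.L19.Closure
import Groth.Agent.L21.Smooth.SepPoints
import Groth.Agent.L24.Hensel.Lift
import Groth.Prelude.Def_EtBase
import Mathlib.AlgebraicGeometry.IdealSheaf.Functorial

/-!
# Rational points give the Néron mapping property over strictly henselian bases
-/

set_option autoImplicit false
set_option linter.style.haveILetI false
set_option backward.isDefEq.respectTransparency.types false

universe u

open CategoryTheory CategoryTheory.Limits AlgebraicGeometry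

namespace Groth.L15.NeronExt

open Groth.L18.Codim1 (eta eta_mem_of_dense eta_specializes_of_specializes exists_nhds_subset_closure)

variable {R : Type u} [CommRing R] [IsDomain R] [IsDiscreteValuationRing R]

/-- A smooth scheme over a strictly henselian ring has sections through every open meeting the
special fibre. -/
theorem exists_section_meeting [HenselianLocalRing R] [IsSepClosed (IsLocalRing.ResidueField R)]
    {X : Scheme.{u}} (q : X ⟶ Spec (CommRingCat.of R)) [Smooth q] (O : X.Opens) (y : X) (hy : y ∈ O)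
    (hys : q y = IsLocalRing.closedPoint R) :
    ∃ σ : Spec (CommRingCat.of R) ⟶ X, σ ≫ q = 𝟙 _ ∧ σ (IsLocalRing.closedPoint R) ∈ O := by
  let k := IsLocalRing.ResidueField R
  let i : Spec (CommRingCat.of k) ⟶ Spec (CommRingCat.of R) :=
    Spec.map (CommRingCat.ofHom (IsLocalRing.residue R))
  let F := pullback q i
  letI : F.Over (Spec (CommRingCat.of k)) := ⟨pullback.snd q i⟩
  haveI : Smooth (F ↘ Spec (CommRingCat.of k)) := inferInstanceAs (Smooth (pullback.snd q i))
  have hyr : y ∈ Set.range (pullback.fst q i) := by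
    rw [Scheme.Pullback.range_fst]
    refine ⟨IsLocalRing.closedPoint k, ?_⟩
    rw [hys]
    exact IsLocalRing.comap_closedPoint (IsLocalRing.residue R)
  obtain ⟨y', hy'⟩ := hyr
  obtain ⟨V, hV, ψ, hmem, hψ⟩ := Groth.L21.SepPoints.exists_point (k := k) k F
    (W := pullback.fst q i ⁻¹ᵁ O) (x := y') (by show pullback.fst q i y' ∈ O; rw [hy']; exact hy)
  let z : Spec (CommRingCat.of k) ⟶ F := Spec.map (CommRingCat.ofHom ψ) ≫ hV.fromSpec
  have hz : z ≫ pullback.snd q i = 𝟙 _ := by
    rw [Category.assoc]
    refine hψ.trans ?_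
    rw [Algebra.algebraMap_self]
    exact Spec.map_id _
  have hzO : pullback.fst q i (z (IsLocalRing.closedPoint k)) ∈ O := by
    rw [show z (IsLocalRing.closedPoint k) = hV.fromSpec ⟨RingHom.ker ψ, RingHom.ker_isPrime ψ⟩ from
      (Scheme.Hom.comp_apply _ _ _).trans (congrArg _ (PrimeSpectrum.ext
        (congrArg (Ideal.comap ψ) IsLocalRing.maximalIdeal_eq_bot)))]
    exact hmem
  haveI := Groth.L24.Hensel.henselianRing_of_ne_top (R := R) (IsLocalRing.maximalIdeal.isMaximal R).ne_top
  obtain ⟨σ, hσ, hσ₀⟩ := Groth.L24.Hensel.exists_section_of_smooth (R := R)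
    (IsLocalRing.maximalIdeal.isMaximal R).ne_top q (z ≫ pullback.fst q i)
    ((Category.assoc _ _ _).trans ((congrArg (fun φ => z ≫ φ) pullback.condition).trans
      ((Category.assoc _ _ _).symm.trans ((congrArg (fun φ => φ ≫ i) hz).trans (Category.id_comp i)))))
  refine ⟨σ, hσ, ?_⟩
  have h1 := congrArg (fun φ : Spec (CommRingCat.of k) ⟶ X => φ (IsLocalRing.closedPoint k)) hσ₀
  have h2 : σ (Spec.map (CommRingCat.ofHom (Ideal.Quotient.mk (IsLocalRing.maximalIdeal R)))
    (IsLocalRing.closedPoint k)) = pullback.fst q i (z (IsLocalRing.closedPoint k)) := h1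
  rw [show IsLocalRing.closedPoint R = Spec.map (CommRingCat.ofHom (Ideal.Quotient.mk (IsLocalRing.maximalIdeal R)))
    (IsLocalRing.closedPoint k) from (IsLocalRing.comap_closedPoint (IsLocalRing.residue R)).symm]
  exact h2 ▸ hzO

/-- Points of the special fibre of codimension at most one are maximal in it. -/
theorem eq_of_specializes_special {X : Scheme.{u}} (q : X ⟶ Spec (CommRingCat.of R)) [Smooth q] {y z : X}
    [IsDomain (X.presheaf.stalk y)] (hy : ringKrullDim (X.presheaf.stalk y) ≤ 1)
    (hys : q y = IsLocalRing.closedPoint R) (hzy : z ⤳ y) (hzs : q z = IsLocalRing.closedPoint R) :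
    z = y := by
  haveI : Ring.KrullDimLE 1 (X.presheaf.stalk y) := Ring.krullDimLE_iff.mpr hy
  obtain ⟨P, rfl⟩ : z ∈ Set.range (X.fromSpecStalk y) := by rw [Scheme.range_fromSpecStalk]; exact hzy
  by_cases hP : P.asIdeal = ⊥
  · exfalso
    obtain ⟨ρ, hρ, hfl, -⟩ := exists_stalk_hom q y
    letI : Algebra R (X.presheaf.stalk y) := ρ.toAlgebra
    haveI : Module.Flat R (X.presheaf.stalk y) := hfl
    haveI : IsLocalHom (algebraMap R (X.presheaf.stalk y)) := ⟨fun r hr => by
      by_contra hn
      have h1 : Spec.map (CommRingCat.ofHom ρ) (IsLocalRing.closedPoint (X.presheaf.stalk y)) =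
          IsLocalRing.closedPoint R :=
        (congrArg (fun φ : Spec (X.presheaf.stalk y) ⟶ Spec (CommRingCat.of R) =>
          φ (IsLocalRing.closedPoint (X.presheaf.stalk y))) hρ).trans
          ((congrArg q Scheme.fromSpecStalk_closedPoint).trans hys)
      have h2 : r ∈ (Spec.map (CommRingCat.ofHom ρ) (IsLocalRing.closedPoint (X.presheaf.stalk y))).asIdeal := by
        rw [h1]; exact (IsLocalRing.mem_maximalIdeal r).mpr hn
      exact h2 hr⟩
    have h1 : P.asIdeal.comap ρ = IsLocalRing.maximalIdeal R := congrArg PrimeSpectrum.asIdeal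
      ((congrArg (fun φ : Spec (X.presheaf.stalk y) ⟶ Spec (CommRingCat.of R) => φ P) hρ).trans hzs)
    rw [hP, Ideal.comap_bot_of_injective ρ (injective_of_local_flat R (X.presheaf.stalk y))] at h1
    exact IsDiscreteValuationRing.not_a_field R h1.symm
  · rw [show P = IsLocalRing.closedPoint (X.presheaf.stalk y) from
      PrimeSpectrum.ext (IsLocalRing.eq_maximalIdeal (P.isPrime.isMaximal_of_ne_bot hP))]
    exact Scheme.fromSpecStalk_closedPoint

/-- Over a strictly henselian discrete valuation ring, a smooth separated group of finite type has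
the mapping property as soon as its rational points extend. -/
theorem bijective_of_rational [HenselianLocalRing R] [IsSepClosed (IsLocalRing.ResidueField R)]
    (N : Over (Spec (CommRingCat.of R))) [GrpObj N] [LocallyOfFiniteType N.hom] [IsSeparated N.hom]
    [QuasiCompact N.hom]
    (h : Function.Bijective (fun g : Over.mk (𝟙 (Spec (CommRingCat.of R))) ⟶ N => (Neron.genericFibre R).map g))
    (Y : Over (Spec (CommRingCat.of R))) [Smooth Y.hom] :
    Function.Bijective (fun g : Y ⟶ N => (Neron.genericFibre R).map g) := by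
  haveI : IsLocallyNoetherian Y.left := LocallyOfFiniteType.isLocallyNoetherian Y.hom
  rw [Groth.Agent.NeronL.map_bijective_iff] at h
  refine bijective_map_of_extends R N Y fun U f hf hgen y _ hy hys => ?_
  have hηU : eta Y.left y ∈ U :=
    eta_mem_of_dense y ((Groth.L26.Weil.dense_range_fst Y.hom).mono hgen)
  let w₀ : ↥(U : Scheme.{u}) := ⟨eta Y.left y, hηU⟩
  let q : pullback N.hom Y.hom ⟶ Y.left := pullback.snd N.hom Y.hom
  let s : (U : Scheme.{u}) ⟶ pullback N.hom Y.hom := pullback.lift f U.ι hf
  let T : TopologicalSpace.Closeds ↥(pullback N.hom Y.hom) :=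
    ⟨closure {s w₀} ∩ q ⁻¹' (Y.hom ⁻¹' {IsLocalRing.closedPoint R}),
      isClosed_closure.inter (((IsLocalRing.isClosed_singleton_closedPoint R).preimage Y.hom.continuous).preimage
        q.continuous)⟩
  let Z := (Scheme.IdealSheafData.vanishingIdeal T).subschemeι
  have hZ : Set.range Z = (T : Set ↥(pullback N.hom Y.hom)) := by
    rw [Scheme.IdealSheafData.range_subschemeι, Scheme.IdealSheafData.coe_support_vanishingIdeal]
  haveI : QuasiCompact q := MorphismProperty.pullback_snd (P := @QuasiCompact) _ _ inferInstance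
  obtain ⟨N₀, hyN, hN⟩ := exists_nhds_subset_closure y
  have hcl : y ∈ closure (Set.range (Z ≫ q)) := by
    rw [mem_closure_iff]
    intro O hO hyO
    obtain ⟨σ, hσ, hσO⟩ := exists_section_meeting Y.hom (⟨O, hO⟩ ⊓ N₀) y ⟨hyO, hyN⟩ hys
    let gK := Neron.genPt R
    let K₀ := FractionRing R
    let jK : Spec (CommRingCat.of K₀) ⟶ (U : Scheme.{u}) := IsOpenImmersion.lift U.ι (gK ≫ σ) (by
      rw [Scheme.Opens.range_ι]
      rintro _ ⟨t, rfl⟩
      refine hgen ⟨(pullback.lift (gK ≫ σ) (𝟙 _) (by rw [Category.assoc, hσ, Category.comp_id, Category.id_comp]) :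
        Spec (CommRingCat.of K₀) ⟶ pullback Y.hom gK) t, ?_⟩
      rw [← Scheme.Hom.comp_apply, pullback.lift_fst])
    have hjK : jK ≫ U.ι = gK ≫ σ := IsOpenImmersion.lift_fac _ _ _
    obtain ⟨τ, hτ, -⟩ := h (pullback.snd (𝟙 _) gK ≫ jK ≫ f) (by
      rw [Category.assoc, Category.assoc, hf, reassoc_of% hjK, hσ, Category.comp_id]
      exact pullback.condition.symm)
    have hτN : τ.left ≫ N.hom = 𝟙 _ := Over.w τ
    have hτK : gK ≫ τ.left = jK ≫ f := by
      have := congrArg (fun φ => (pullback.lift gK (𝟙 _) (by rw [Category.comp_id, Category.id_comp]) :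
        Spec (CommRingCat.of K₀) ⟶ pullback (𝟙 (Spec (CommRingCat.of R))) gK) ≫ φ) hτ
      erw [pullback.lift_fst_assoc, pullback.lift_snd_assoc, Category.id_comp] at this
      exact this
    let a : Spec (CommRingCat.of R) ⟶ pullback N.hom Y.hom :=
      pullback.lift τ.left σ (hτN.trans hσ.symm)
    have ha : gK ≫ a = jK ≫ s := by
      apply pullback.hom_ext <;> simp only [a, s, Category.assoc, pullback.lift_fst, pullback.lift_snd]
      · exact hτK
      · exact hjK.symm
    let t : ↥(Spec (CommRingCat.of K₀)) := IsLocalRing.closedPoint K₀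
    have hqa : q (a (IsLocalRing.closedPoint R)) = σ (IsLocalRing.closedPoint R) := by
      rw [← Scheme.Hom.comp_apply, pullback.lift_snd]
    have haT : a (IsLocalRing.closedPoint R) ∈ (T : Set ↥(pullback N.hom Y.hom)) := by
      refine ⟨specializes_iff_mem_closure.mp (Specializes.trans (Specializes.trans ?_ (specializes_of_eq
        (congrArg (fun φ : Spec (CommRingCat.of K₀) ⟶ pullback N.hom Y.hom => φ t) ha).symm))
        ((IsLocalRing.specializes_closedPoint (gK t)).map a.continuous)), ?_⟩
      · refine (Specializes.map ?_ s.continuous)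
        rw [← U.ι.isOpenEmbedding.isInducing.specializes_iff]
        refine hN _ ?_
        have h1 : U.ι (jK t) = σ (gK t) :=
          congrArg (fun φ : Spec (CommRingCat.of K₀) ⟶ Y.left => φ t) hjK
        exact Eq.mpr (congrArg (· ∈ N₀) h1)
          (((IsLocalRing.specializes_closedPoint (gK t)).map σ.continuous).mem_open N₀.2 hσO.2)
      · show Y.hom (q (a (IsLocalRing.closedPoint R))) = _
        rw [hqa, ← Scheme.Hom.comp_apply, hσ]
        rfl
    obtain ⟨x, hx⟩ : a (IsLocalRing.closedPoint R) ∈ Set.range Z := hZ ▸ haT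
    refine ⟨_, hσO.1, x, ?_⟩
    rw [Scheme.Hom.comp_apply, hx, hqa]
  obtain ⟨x, hx⟩ := Groth.L19.exists_specializes_of_mem_closure_range (Z ≫ q) hcl
  rw [Scheme.Hom.comp_apply] at hx
  have hxT : Z x ∈ (T : Set ↥(pullback N.hom Y.hom)) := hZ ▸ Set.mem_range_self x
  refine ⟨Z x, eq_of_specializes_special Y.hom hy hys hx hxT.2, fun w hw => ?_⟩
  rw [show w = w₀ from U.ι.isEmbedding.injective (hw.trans rfl)]
  exact specializes_iff_mem_closure.mpr hxT.1

end Groth.L15.NeronExt
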